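import Groth.Agent.Alg.PthRoot.Section
import Mathlib.RingTheory.AdjoinRoot
import Mathlib.RingTheory.Ideal.Cotangent
import Mathlib.RingTheory.LocalRing.ResidueField.Basic
import Mathlib.RingTheory.LocalRing.RingHom.Basic
import Mathlib.RingTheory.IntegralClosure.IntegralRestrict
import Mathlib.RingTheory.IntegralClosure.IsIntegralClosure.Basic

/-! Adjoining a `p`-th root to a local ring of characteristic `p`. -/

open Polynomial IsLocalRing

universe u v

namespace Groth.Agent.Alg.PthRoot

variable (p : ℕ) [Fact p.Prime] {A : Type u} [CommRing A] [IsLocalRing A]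

theorem deriv_pow [CharP A p] (D : Derivation ℤ A (ResidueField A)) (a : A) : D (a ^ p) = 0 := by
  rw [Derivation.leibniz_pow, ← Nat.cast_smul_eq_nsmul A, CharP.cast_eq_zero, zero_smul]

theorem residueField_charP [CharP A p] : CharP (ResidueField A) p :=
  (CharP.charP_iff_prime_eq_zero Fact.out).mpr (by
    rw [← map_natCast (residue A), CharP.cast_eq_zero, map_zero])

section Family

variable {ι : Type v} [Fintype ι]

theorem finrank_eq [IsNoetherianRing A] (x : ι → A) (hx : ∀ i, x i ∈ maximalIdeal A)
    (hgen : maximalIdeal A ≤ Ideal.span (Set.range x) ⊔ maximalIdeal A ^ 2)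
    (hind : ∀ b : ι → A, ∑ i, b i * x i ∈ maximalIdeal A ^ 2 → ∀ i, b i ∈ maximalIdeal A) :
    Module.finrank (ResidueField A) (CotangentSpace A) = Fintype.card ι := by
  let v : ι → CotangentSpace A := fun i => (maximalIdeal A).toCotangent ⟨x i, hx i⟩
  have hli : LinearIndependent (ResidueField A) v := by
    rw [Fintype.linearIndependent_iff]
    intro g hg i
    choose b hb using fun i => residue_surjective (R := A) (g i)
    rw [← hb i, residue_eq_zero_iff]
    refine hind b ?_ i
    have h1 : (maximalIdeal A).toCotangent (∑ i, b i • ⟨x i, hx i⟩) = 0 := by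
      rw [map_sum, ← hg]
      refine Finset.sum_congr rfl fun i _ => ?_
      rw [map_smul, ← hb i]
      rfl
    rw [Ideal.toCotangent_eq_zero] at h1
    simpa [AddSubmonoidClass.coe_finsetSum] using h1
  have hsp : ⊤ ≤ Submodule.span (ResidueField A) (Set.range v) := fun z _ => by
    obtain ⟨⟨a, ha⟩, rfl⟩ := Ideal.toCotangent_surjective _ z
    obtain ⟨y, hy, w, hw, rfl⟩ := Submodule.mem_sup.mp (hgen ha)
    obtain ⟨c, rfl⟩ := Ideal.mem_span_range_iff_exists_fun.mp hy
    have : (maximalIdeal A).toCotangent ⟨∑ i, c i * x i + w, ha⟩ = ∑ i, residue A (c i) • v i := by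
      have h1 : ∀ i, residue A (c i) • v i = (maximalIdeal A).toCotangent (c i • ⟨x i, hx i⟩) :=
        fun i => by rw [map_smul]; rfl
      simp only [h1, ← map_sum]
      rw [Ideal.toCotangent_eq]
      simpa [AddSubmonoidClass.coe_finsetSum] using hw
    rw [this]
    exact Submodule.sum_mem _ fun i _ => Submodule.smul_mem _ _ (Submodule.subset_span ⟨i, rfl⟩)
  rw [Module.finrank_eq_card_basis (Module.Basis.mk hli hsp)]

theorem family_of_basis (b : Module.Basis ι (ResidueField A) (CotangentSpace A)) (x : ι → A)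
    (hx : ∀ i, x i ∈ maximalIdeal A) (hb : ∀ i, (maximalIdeal A).toCotangent ⟨x i, hx i⟩ = b i) :
    maximalIdeal A ≤ Ideal.span (Set.range x) ⊔ maximalIdeal A ^ 2 ∧
    ∀ c : ι → A, ∑ i, c i * x i ∈ maximalIdeal A ^ 2 → ∀ i, c i ∈ maximalIdeal A := by
  have key : ∀ c : ι → A, (maximalIdeal A).toCotangent (∑ i, c i • ⟨x i, hx i⟩) =
      ∑ i, residue A (c i) • b i := fun c => by
    simp only [map_sum, map_smul, hb]
    rfl
  refine ⟨fun a ha => ?_, fun c hc i => ?_⟩
  · choose c hc using fun i => residue_surjective (R := A) (b.repr ((maximalIdeal A).toCotangent ⟨a, ha⟩) i)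
    have h2 : (maximalIdeal A).toCotangent ⟨a, ha⟩ = (maximalIdeal A).toCotangent (∑ i, c i • ⟨x i, hx i⟩) := by
      rw [key]; simp only [hc, b.sum_repr]
    rw [Ideal.toCotangent_eq] at h2
    rw [show a = ∑ i, c i * x i + (a - ∑ i, c i * x i) by ring]
    exact Submodule.add_mem_sup (Ideal.mem_span_range_iff_exists_fun.mpr ⟨c, rfl⟩)
      (by simpa [AddSubmonoidClass.coe_finsetSum] using h2)
  · have h1 : (maximalIdeal A).toCotangent (∑ i, c i • ⟨x i, hx i⟩) = 0 := by
      rw [Ideal.toCotangent_eq_zero]; simpa [AddSubmonoidClass.coe_finsetSum] using hc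
    rw [key] at h1
    exact (residue_eq_zero_iff _).mp (Fintype.linearIndependent_iff.mp b.linearIndependent _ h1 i)

end Family

theorem exists_derivation [CharP A p] (f : A) (hf : ∀ a, f - a ^ p ∉ maximalIdeal A ^ 2) :
    ∃ D : Derivation ℤ A (ResidueField A), D f ≠ 0 := by
  have := residueField_charP p (A := A)
  by_cases h : ∃ y, y ^ p = residue A f
  · obtain ⟨y, hy⟩ := h
    obtain ⟨a, rfl⟩ := residue_surjective y
    let g := f - a ^ p
    have hg : g ∈ maximalIdeal A := by
      rw [← residue_eq_zero_iff]; simp [g, ← hy]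
    let m2 := maximalIdeal A ^ 2
    have hm2 : m2 ≤ maximalIdeal A := Ideal.pow_le_self two_ne_zero
    let π : A ⧸ m2 →+* ResidueField A := Ideal.Quotient.factor hm2
    have : Nontrivial (A ⧸ m2) := Ideal.Quotient.nontrivial_iff.mpr
      fun h => (maximalIdeal.isMaximal A).ne_top (eq_top_iff.mpr (h ▸ hm2))
    have : CharP (A ⧸ m2) p := (CharP.charP_iff_prime_eq_zero Fact.out).mpr (by
      rw [← map_natCast (Ideal.Quotient.mk m2), CharP.cast_eq_zero, map_zero])
    obtain ⟨s, hs, -⟩ := exists_section p π (Ideal.Quotient.factor_surjective hm2) (fun k k' hk hk' => by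
      obtain ⟨k, rfl⟩ := Ideal.Quotient.mk_surjective k
      obtain ⟨k', rfl⟩ := Ideal.Quotient.mk_surjective k'
      rw [← map_mul, Ideal.Quotient.eq_zero_iff_mem]
      simp only [m2, sq]
      exact Ideal.mul_mem_mul (Ideal.Quotient.eq_zero_iff_mem.mp hk) (Ideal.Quotient.eq_zero_iff_mem.mp hk'))
      ∅ Set.subsingleton_empty (by simp)
    choose t ht using fun b : A => Ideal.Quotient.mk_surjective (I := m2) (s (residue A b))
    have htm : ∀ b, b - t b ∈ maximalIdeal A := fun b => by
      rw [← residue_eq_zero_iff, map_sub, sub_eq_zero]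
      have := congrArg π (ht b)
      rw [hs] at this
      exact this.symm
    have hgne : (maximalIdeal A).toCotangent ⟨g, hg⟩ ≠ 0 := by
      rw [ne_eq, Ideal.toCotangent_eq_zero]; exact hf a
    obtain ⟨φ, hφ⟩ : ∃ φ : Module.Dual (ResidueField A) (CotangentSpace A),
        φ ((maximalIdeal A).toCotangent ⟨g, hg⟩) ≠ 0 := by
      by_contra hh
      push Not at hh
      exact hgne ((Module.forall_dual_apply_eq_zero_iff (ResidueField A) _).mp hh)
    let d : A →+ CotangentSpace A := AddMonoidHom.mk' (fun b => (maximalIdeal A).toCotangent ⟨b - t b, htm b⟩)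
      fun b c => by
        rw [← map_add, Ideal.toCotangent_eq]
        change b + c - t (b + c) - (b - t b + (c - t c)) ∈ _
        rw [← Ideal.Quotient.eq_zero_iff_mem]
        simp only [map_sub, map_add]
        erw [ht, ht, ht]
        rw [map_add, map_add]
        ring
    let D : Derivation ℤ A (ResidueField A) :=
      Derivation.mk' ((φ.toAddMonoidHom.comp d).toIntLinearMap) fun b c => by
        simp only [AddMonoidHom.coe_toIntLinearMap, AddMonoidHom.coe_comp, Function.comp_apply,
          LinearMap.toAddMonoidHom_coe, d, AddMonoidHom.mk'_apply]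
        have h1 : ∀ (r : A) (v : CotangentSpace A), r • φ v = φ (r • v) := fun r v =>
          (φ.map_smul (residue A r) v).symm
        rw [h1, h1, ← map_add, ← map_smul, ← map_smul, ← map_add]
        congr 1
        rw [Ideal.toCotangent_eq]
        change b * c - t (b * c) - (b * (c - t c) + c * (b - t b)) ∈ _
        have e : t (b * c) - t b * t c ∈ m2 := by
          rw [← Ideal.Quotient.eq_zero_iff_mem, map_sub, map_mul, ht, ht, ht, map_mul, map_mul, sub_self]
        rw [show b * c - t (b * c) - (b * (c - t c) + c * (b - t b)) =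
          -((b - t b) * (c - t c)) - (t (b * c) - t b * t c) by ring, sq]
        exact sub_mem (neg_mem (Ideal.mul_mem_mul (htm b) (htm c))) (by rw [← sq]; exact e)
    refine ⟨D, ?_⟩
    rw [show f = a ^ p + g by simp [g], map_add, deriv_pow p, zero_add]
    change φ ((maximalIdeal A).toCotangent ⟨g - t g, htm g⟩) ≠ 0
    convert hφ using 2
    rw [Ideal.toCotangent_eq]
    change g - t g - g ∈ m2
    rw [← Ideal.Quotient.eq_zero_iff_mem, sub_sub_cancel_left, map_neg, ht,
      (residue_eq_zero_iff g).mpr hg, map_zero, neg_zero]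
  · push Not at h
    obtain ⟨D, hD⟩ := exists_derivation_field p (residue A f) h
    refine ⟨Derivation.mk' ((D : _ →ₗ[ℤ] _).toAddMonoidHom.comp (residue A).toAddMonoidHom).toIntLinearMap
      fun b c => ?_, ?_⟩
    · simp [Algebra.smul_def, map_mul, mul_comm]
    · simp [hD]

theorem monic_dvd_eq_zero {R : Type*} [CommRing R] {G Q : R[X]} (hG : G.Monic) (h : G ∣ Q)
    (hd : Q.degree < G.degree) : Q = 0 := by
  nontriviality R
  rw [← (modByMonic_eq_zero_iff_dvd hG).mpr h, (modByMonic_eq_self_iff hG).mpr hd]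

/-- `A[T]/(T^p - f)`. -/
abbrev Step (f : A) : Type u := AdjoinRoot (X ^ p - C f)

variable (f : A)

instance step_finite : Module.Finite A (Step p f) :=
  (monic_X_pow_sub_C f (Fact.out : p.Prime).ne_zero).finite_adjoinRoot

instance step_free : Module.Free A (Step p f) :=
  (monic_X_pow_sub_C f (Fact.out : p.Prime).ne_zero).free_adjoinRoot

theorem step_injective : Function.Injective (algebraMap A (Step p f)) := by
  refine (injective_iff_map_eq_zero _).mpr fun a ha => C_eq_zero.mp (monic_dvd_eq_zero
    (monic_X_pow_sub_C f (Fact.out : p.Prime).ne_zero) ?_ ?_)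
  · rw [← AdjoinRoot.mk_eq_zero, AdjoinRoot.mk_C]; exact ha
  · have : Nontrivial A := inferInstance
    rw [degree_X_pow_sub_C (Fact.out : p.Prime).pos]
    exact degree_C_le.trans_lt (WithBot.coe_lt_coe.mpr (Fact.out : p.Prime).pos)

instance step_charP [CharP A p] : CharP (Step p f) p :=
  charP_of_injective_ringHom (step_injective p f) p

instance step_localHom : IsLocalHom (algebraMap A (Step p f)) :=
  RingHom.IsIntegral.isLocalHom
    (fun z => Algebra.IsIntegral.isIntegral (R := A) z) (step_injective p f)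

theorem pow_mem_range [CharP A p] (z : Step p f) : ∃ a, algebraMap A (Step p f) a = z ^ p := by
  obtain ⟨P, rfl⟩ := AdjoinRoot.mk_surjective z
  induction P using Polynomial.induction_on' with
  | add P Q hP hQ =>
    obtain ⟨a, ha⟩ := hP
    obtain ⟨b, hb⟩ := hQ
    exact ⟨a + b, by rw [map_add, ha, hb, map_add, add_pow_char]⟩
  | monomial k c =>
    refine ⟨c ^ p * f ^ k, ?_⟩
    have hroot : AdjoinRoot.root (X ^ p - C f) ^ p = algebraMap A (Step p f) f := by
      have := AdjoinRoot.eval₂_root (X ^ p - C f)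
      simpa [sub_eq_zero] using this
    simp only [← C_mul_X_pow_eq_monomial, map_mul, map_pow, AdjoinRoot.mk_X, AdjoinRoot.mk_C, mul_pow]
    rw [← pow_mul _ k p, mul_comm k p, pow_mul, hroot]
    rfl

instance step_isLocalRing [CharP A p] : IsLocalRing (Step p f) := by
  have : Nontrivial (Step p f) := (step_injective p f).nontrivial
  refine IsLocalRing.of_nonunits_add fun x y hx hy hxy => ?_
  obtain ⟨a, ha⟩ := pow_mem_range p f x
  obtain ⟨b, hb⟩ := pow_mem_range p f y
  have hp := (Fact.out : p.Prime).ne_zero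
  have hab : IsUnit (a + b) := by
    refine IsUnit.of_map (algebraMap A (Step p f)) _ ?_
    rw [map_add, ha, hb, ← add_pow_char]
    exact IsUnit.pow p hxy
  rcases IsLocalRing.isUnit_or_isUnit_of_isUnit_add hab with h | h
  · exact hx ((isUnit_pow_iff hp).mp (ha ▸ h.map _))
  · exact hy ((isUnit_pow_iff hp).mp (hb ▸ h.map _))

theorem coeff_mem (I : Ideal A) (P : A[X]) (hP : P.degree < p)
    (h : AdjoinRoot.mk (X ^ p - C f) P ∈ I.map (algebraMap A (Step p f))) (k : ℕ) : P.coeff k ∈ I := by
  rcases eq_or_ne I ⊤ with rfl | hI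
  · trivial
  have : Nontrivial (A ⧸ I) := Ideal.Quotient.nontrivial_iff.mpr hI
  let G : (A ⧸ I)[X] := X ^ p - C (Ideal.Quotient.mk I f)
  let q : Step p f →+* AdjoinRoot G := AdjoinRoot.lift ((AdjoinRoot.of G).comp (Ideal.Quotient.mk I))
    (AdjoinRoot.root G) (by simpa [G] using AdjoinRoot.eval₂_root G)
  have hle : I.map (algebraMap A (Step p f)) ≤ RingHom.ker q := Ideal.map_le_iff_le_comap.mpr fun a ha => by
    simp [q, AdjoinRoot.algebraMap_eq, Ideal.Quotient.eq_zero_iff_mem.mpr ha]
  have h0 : AdjoinRoot.mk G (P.map (Ideal.Quotient.mk I)) = 0 := by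
    rw [← RingHom.mem_ker.mp (hle h)]
    simp only [q, AdjoinRoot.lift_mk]
    rw [← eval₂_map]
    exact (AdjoinRoot.aeval_eq _).symm
  rw [AdjoinRoot.mk_eq_zero] at h0
  have h1 := monic_dvd_eq_zero (monic_X_pow_sub_C _ (Fact.out : p.Prime).ne_zero) h0 (by
    rw [degree_X_pow_sub_C (Fact.out : p.Prime).pos]; exact degree_map_le.trans_lt hP)
  rw [← Ideal.Quotient.eq_zero_iff_mem, ← coeff_map, h1, coeff_zero]

theorem exists_rep (z : Step p f) : ∃ P : A[X], P.degree < p ∧ AdjoinRoot.mk (X ^ p - C f) P = z := by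
  obtain ⟨P, rfl⟩ := AdjoinRoot.mk_surjective z
  have hG := monic_X_pow_sub_C f (Fact.out : p.Prime).ne_zero
  refine ⟨P %ₘ (X ^ p - C f), ?_, ?_⟩
  · have := degree_modByMonic_lt P hG
    rwa [degree_X_pow_sub_C (Fact.out : p.Prime).pos] at this
  · rw [AdjoinRoot.mk_eq_mk, ← dvd_neg, neg_sub]
    exact ⟨P /ₘ (X ^ p - C f), by linear_combination (-1 : A[X]) * modByMonic_add_div P (X ^ p - C f)⟩

variable [CharP A p] [IsNoetherianRing A]

instance step_noetherian : IsNoetherianRing (Step p f) := IsNoetherianRing.of_finite A (Step p f)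

/-- `f` is not a `p`-th power in the residue field. -/
theorem finrank_cotangent_inseparable (hf : ∀ y : ResidueField A, y ^ p ≠ residue A f) :
    Module.finrank (ResidueField (Step p f)) (CotangentSpace (Step p f)) =
      Module.finrank (ResidueField A) (CotangentSpace A) := by
  classical
  let G : (ResidueField A)[X] := X ^ p - C (residue A f)
  have : Fact (Irreducible G) := ⟨X_pow_sub_C_irreducible_of_prime Fact.out hf⟩
  let χ : Step p f →+* AdjoinRoot G := AdjoinRoot.lift ((AdjoinRoot.of G).comp (residue A))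
    (AdjoinRoot.root G) (by simpa [G] using AdjoinRoot.eval₂_root G)
  have hχ : ∀ P, χ (AdjoinRoot.mk _ P) = AdjoinRoot.mk G (P.map (residue A)) := fun P => by
    simp only [χ, AdjoinRoot.lift_mk]
    rw [← eval₂_map]
    exact AdjoinRoot.aeval_eq _
  have hker : maximalIdeal (Step p f) = (maximalIdeal A).map (algebraMap A (Step p f)) := by
    refine le_antisymm ?_ (((IsLocalRing.local_hom_TFAE (algebraMap A (Step p f))).out 0 2 rfl rfl).mp inferInstance)
    rw [← IsLocalRing.ker_eq_maximalIdeal χ (fun z => by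
      obtain ⟨P, rfl⟩ := AdjoinRoot.mk_surjective z
      obtain ⟨P, rfl⟩ := Polynomial.map_surjective (residue A) residue_surjective P
      exact ⟨_, hχ P⟩)]
    intro z hz
    obtain ⟨P, hP, rfl⟩ := exists_rep p f z
    rw [RingHom.mem_ker, hχ, AdjoinRoot.mk_eq_zero] at hz
    have h1 := Polynomial.eq_zero_of_dvd_of_degree_lt hz (by
      rw [degree_X_pow_sub_C (Fact.out : p.Prime).pos]; exact degree_map_le.trans_lt hP)
    rw [P.as_sum_support, map_sum]
    refine Ideal.sum_mem _ fun k _ => ?_
    rw [← C_mul_X_pow_eq_monomial, map_mul]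
    refine Ideal.mul_mem_right _ _ (Ideal.mem_map_of_mem _ ((residue_eq_zero_iff _).mp ?_))
    rw [← coeff_map, h1, coeff_zero]
  have hfin : Module.Finite (ResidueField A) (CotangentSpace A) := inferInstance
  let b := Module.finBasis (ResidueField A) (CotangentSpace A)
  choose x hxb using fun i => Ideal.toCotangent_surjective (maximalIdeal A) (b i)
  obtain ⟨hgen, hind⟩ := family_of_basis b (fun i => (x i : A)) (fun i => (x i).2) hxb
  rw [finrank_eq (A := Step p f) (fun i => algebraMap A _ (x i : A)), Fintype.card_fin]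
  · exact fun i => hker ▸ Ideal.mem_map_of_mem _ (x i).2
  · rw [hker, ← Ideal.map_pow]
    refine (Ideal.map_mono hgen).trans (le_of_eq ?_)
    rw [Ideal.map_sup, Ideal.map_span, ← Set.range_comp]
    rfl
  · intro c hc i
    choose P hP hPc using fun j => exists_rep p f (c j)
    rw [hker, ← Ideal.map_pow] at hc
    have h2 : AdjoinRoot.mk (X ^ p - C f) (∑ j, P j * C (x j : A)) ∈
        (maximalIdeal A ^ 2).map (algebraMap A (Step p f)) := by
      simpa [map_sum, hPc, AdjoinRoot.algebraMap_eq] using hc
    have hdeg : (∑ j, P j * C (x j : A)).degree < p := by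
      refine (degree_sum_le _ _).trans_lt ((Finset.sup_lt_iff (WithBot.bot_lt_coe _)).mpr fun j _ => ?_)
      refine lt_of_le_of_lt ?_ (hP j)
      rw [mul_comm]
      exact (degree_mul_le _ _).trans (by simpa using add_le_add degree_C_le (le_refl (P j).degree))
    rw [hker, ← hPc i, (P i).as_sum_support, map_sum]
    refine Ideal.sum_mem _ fun k _ => ?_
    rw [← C_mul_X_pow_eq_monomial, map_mul]
    refine Ideal.mul_mem_right _ _ (Ideal.mem_map_of_mem _ ?_)
    refine hind (fun j => (P j).coeff k) ?_ i
    simpa [finset_sum_coeff] using coeff_mem p f _ _ hdeg h2 k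

/-- `f = a ^ p + g` with `g` in the maximal ideal. -/
theorem finrank_cotangent_split (a : A) (hg : f - a ^ p ∈ maximalIdeal A) :
    (f - a ^ p ∈ maximalIdeal A ^ 2 →
      Module.finrank (ResidueField (Step p f)) (CotangentSpace (Step p f)) =
        Module.finrank (ResidueField A) (CotangentSpace A) + 1) ∧
    (f - a ^ p ∉ maximalIdeal A ^ 2 →
      Module.finrank (ResidueField (Step p f)) (CotangentSpace (Step p f)) =
        Module.finrank (ResidueField A) (CotangentSpace A)) := by
  classical
  have hp := (Fact.out : p.Prime)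
  let g := f - a ^ p
  let s : Step p f := AdjoinRoot.root _ - algebraMap A _ a
  have hs : s ^ p = algebraMap A _ g := by
    have h := AdjoinRoot.eval₂_root (X ^ p - C f)
    simp only [eval₂_sub, eval₂_X_pow, eval₂_C, sub_eq_zero] at h
    rw [sub_pow_char, h, map_sub, map_pow]
    rfl
  have := residueField_charP p (A := A)
  have hres : residue A a ^ p = residue A f := by
    rw [← map_pow, eq_comm, ← sub_eq_zero, ← map_sub]; exact (residue_eq_zero_iff _).mpr hg
  let χ : Step p f →+* ResidueField A :=
    AdjoinRoot.lift (residue A) (residue A a) (by simp [hres])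
  have hker : maximalIdeal (Step p f) = (maximalIdeal A).map (algebraMap A _) ⊔ Ideal.span {s} := by
    rw [← IsLocalRing.ker_eq_maximalIdeal χ (fun z => by
      obtain ⟨c, rfl⟩ := residue_surjective z
      exact ⟨algebraMap A _ c, by simp [χ, AdjoinRoot.algebraMap_eq]⟩)]
    refine le_antisymm (fun z hz => ?_) (sup_le ?_ ?_)
    · obtain ⟨P, rfl⟩ := AdjoinRoot.mk_surjective z
      obtain ⟨Q, hQ⟩ := X_sub_C_dvd_sub_C_eval (a := a) (p := P)
      rw [show P = C (P.eval a) + (X - C a) * Q by rw [← hQ]; ring, map_add, map_mul]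
      refine Submodule.add_mem_sup (Ideal.mem_map_of_mem _ ((residue_eq_zero_iff _).mp ?_))
        (Ideal.mul_mem_right _ _ (Ideal.subset_span (by simp [s, AdjoinRoot.algebraMap_eq])))
      simpa [χ, Polynomial.eval₂_at_apply] using hz
    · exact Ideal.map_le_iff_le_comap.mpr fun c hc => by
        simp [χ, AdjoinRoot.algebraMap_eq, (residue_eq_zero_iff c).mpr hc]
    · simp [Ideal.span_le, χ, s, AdjoinRoot.algebraMap_eq]
  have hm : ∀ c ∈ maximalIdeal A, algebraMap A (Step p f) c ∈ maximalIdeal (Step p f) := fun c hc =>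
    hker ▸ Ideal.mem_sup_left (Ideal.mem_map_of_mem _ hc)
  have hsm : s ∈ maximalIdeal (Step p f) := hker ▸ Ideal.mem_sup_right (Ideal.subset_span rfl)
  have hgs : algebraMap A (Step p f) g ∈ maximalIdeal (Step p f) ^ 2 := by
    rw [← hs]; exact Ideal.pow_le_pow_right hp.two_le (Ideal.pow_mem_pow hsm p)
  let ε : Step p f →+* TrivSqZeroExt (ResidueField A) (ResidueField A) :=
    AdjoinRoot.lift ((TrivSqZeroExt.inlHom _ _).comp (residue A))
      (TrivSqZeroExt.inl (residue A a) + TrivSqZeroExt.inr 1) (by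
        have : CharP (TrivSqZeroExt (ResidueField A) (ResidueField A)) p :=
          charP_of_injective_ringHom (f := TrivSqZeroExt.inlHom _ _) TrivSqZeroExt.inl_injective p
        simp only [eval₂_sub, eval₂_X_pow, eval₂_C, add_pow_char, sub_eq_zero]
        rw [show (TrivSqZeroExt.inr (1 : ResidueField A) : TrivSqZeroExt (ResidueField A) (ResidueField A)) ^ p = 0
          from pow_eq_zero_of_le hp.two_le (by rw [sq, TrivSqZeroExt.inr_mul_inr]), add_zero]
        change (TrivSqZeroExt.inlHom _ _) _ ^ p = _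
        rw [← map_pow, hres]
        rfl)
  have hεs : ε s = TrivSqZeroExt.inr 1 := by simp [ε, s, AdjoinRoot.algebraMap_eq]
  have hε1 : ∀ z, (ε z).fst = χ z := fun z => by
    obtain ⟨P, rfl⟩ := AdjoinRoot.mk_surjective z
    induction P using Polynomial.induction_on' with
    | add P Q hP hQ => simp [hP, hQ]
    | monomial k c => rw [← C_mul_X_pow_eq_monomial]; simp [ε, χ]
  have hχ : ∀ z, z ∈ maximalIdeal (Step p f) ↔ χ z = 0 := fun z => by
    rw [← IsLocalRing.ker_eq_maximalIdeal χ (fun z => by
      obtain ⟨c, rfl⟩ := residue_surjective z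
      exact ⟨algebraMap A _ c, by simp [χ, AdjoinRoot.algebraMap_eq]⟩), RingHom.mem_ker]
  have hε2 : ∀ z ∈ maximalIdeal (Step p f) ^ 2, ε z = 0 := fun z hz => by
    rw [sq] at hz
    refine Submodule.mul_induction_on hz (fun u hu w hw => ?_) fun u w hu hw => by rw [map_add, hu, hw, add_zero]
    rw [map_mul]
    ext <;> simp [hε1, (hχ u).mp hu, (hχ w).mp hw]
  have hεm : ∀ c ∈ maximalIdeal A, ε (AdjoinRoot.of _ c) = 0 := fun c hc => by
    simp [ε, AdjoinRoot.algebraMap_eq, (residue_eq_zero_iff c).mpr hc]
  let J := maximalIdeal A ^ 2 ⊔ Ideal.span {g}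
  let ψ : Step p f →+* A ⧸ J := AdjoinRoot.lift (Ideal.Quotient.mk J) (Ideal.Quotient.mk J a) (by
    simp only [eval₂_sub, eval₂_X_pow, eval₂_C, ← map_pow, ← map_sub]
    rw [Ideal.Quotient.eq_zero_iff_mem]
    exact Ideal.mem_sup_right (Ideal.mem_span_singleton.mpr ⟨-1, by simp [g]⟩))
  have hJm : J ≤ maximalIdeal A := sup_le (Ideal.pow_le_self two_ne_zero) (by simpa [Ideal.span_le, g] using hg)
  have hψs : ψ s = 0 := by simp [ψ, s, AdjoinRoot.algebraMap_eq]
  have hψχ : ∀ z c, ψ z = Ideal.Quotient.mk J c → residue A c = χ z := fun z c h => by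
    obtain ⟨P, rfl⟩ := AdjoinRoot.mk_surjective z
    simp only [ψ, χ, AdjoinRoot.lift_mk, eval₂_at_apply] at h ⊢
    rw [← sub_eq_zero, ← map_sub, residue_eq_zero_iff]
    exact hJm (by rw [← Ideal.Quotient.eq_zero_iff_mem, map_sub, ← h, sub_self])
  have hψ2 : ∀ z ∈ maximalIdeal (Step p f) ^ 2, ψ z = 0 := fun z hz => by
    have h1 : (maximalIdeal (Step p f)).map ψ ≤ (maximalIdeal A).map (Ideal.Quotient.mk J) := by
      rw [hker, Ideal.map_sup, Ideal.map_map, sup_le_iff]
      refine ⟨le_of_eq (congrArg (Ideal.map · _) (RingHom.ext fun e => by simp [ψ, AdjoinRoot.algebraMap_eq])), ?_⟩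
      simp [Ideal.map_span, hψs]
    have h2 := Ideal.mem_map_of_mem ψ hz
    rw [Ideal.map_pow] at h2
    have h3 := Ideal.pow_right_mono h1 2 h2
    rwa [← Ideal.map_pow, (Ideal.map_eq_bot_iff_le_ker _).mpr (by rw [Ideal.mk_ker]; exact le_sup_left),
      Ideal.mem_bot] at h3
  have hψa : ∀ c, ψ (AdjoinRoot.of _ c) = Ideal.Quotient.mk J c := fun c => by
    simp [ψ, AdjoinRoot.algebraMap_eq]
  constructor
  · intro hg2
    let b := Module.finBasis (ResidueField A) (CotangentSpace A)
    choose x hxb using fun i => Ideal.toCotangent_surjective (maximalIdeal A) (b i)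
    obtain ⟨hgen, hind⟩ := family_of_basis b (fun i => (x i : A)) (fun i => (x i).2) hxb
    rw [finrank_eq (A := Step p f) (fun o : Option _ => o.elim s fun i => algebraMap A _ (x i : A)),
      Fintype.card_option, Fintype.card_fin]
    · rintro (_ | i)
      · exact hsm
      · exact hm _ (x i).2
    · rw [hker]
      refine sup_le ((Ideal.map_mono hgen).trans ?_) ?_
      · rw [Ideal.map_sup, Ideal.map_pow, Ideal.map_span]
        refine sup_le_sup (Ideal.span_mono ?_) (Ideal.pow_right_mono le_sup_left 2)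
        rintro _ ⟨_, ⟨i, rfl⟩, rfl⟩; exact ⟨some i, rfl⟩
      · exact le_sup_of_le_left (Ideal.span_mono (by simpa using ⟨none, rfl⟩))
    · intro c hc
      rw [Fintype.sum_option] at hc
      have hJ2 : J = maximalIdeal A ^ 2 := sup_eq_left.mpr (by simpa [Ideal.span_le] using hg2)
      rintro (_ | i)
      · have := congrArg TrivSqZeroExt.snd (hε2 _ hc)
        rw [hχ]
        simpa [map_sum, fun i => hεm _ (x i).2, hεs, hε1, AdjoinRoot.algebraMap_eq] using this
      · choose d hd using fun j => Ideal.Quotient.mk_surjective (ψ (c (some j)))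
        rw [hχ, ← hψχ _ _ (hd i).symm, residue_eq_zero_iff]
        refine hind d ?_ i
        rw [← hJ2, ← Ideal.Quotient.eq_zero_iff_mem]
        simpa [map_sum, hψs, hψa, hd, AdjoinRoot.algebraMap_eq] using hψ2 _ hc
  · intro hg2
    have hne : (maximalIdeal A).toCotangent ⟨g, hg⟩ ≠ 0 := by rwa [ne_eq, Ideal.toCotangent_eq_zero]
    have hli := LinearIndepOn.singleton (R := ResidueField A) (v := id) hne
    let b := Module.Basis.extend hli
    have : Fintype (hli.extend (Set.subset_univ _)) := FiniteDimensional.fintypeBasisIndex b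
    let i₀ : hli.extend (Set.subset_univ _) :=
      ⟨(maximalIdeal A).toCotangent ⟨g, hg⟩, hli.subset_extend _ rfl⟩
    choose x hxb using fun i => Ideal.toCotangent_surjective (maximalIdeal A) (b i)
    let y := Function.update x i₀ ⟨g, hg⟩
    have hyb : ∀ i, (maximalIdeal A).toCotangent (y i) = b i := fun i => by
      rcases eq_or_ne i i₀ with rfl | h
      · simp [y, b, i₀]
      · simp [y, h, hxb]
    obtain ⟨hgen, hind⟩ := family_of_basis b (fun i => (y i : A)) (fun i => (y i).2) hyb
    let w := Function.update (fun i => algebraMap A (Step p f) (y i : A)) i₀ s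
    rw [finrank_eq (A := Step p f) w, ← Module.finrank_eq_card_basis b]
    · intro i
      rcases eq_or_ne i i₀ with rfl | h
      · simpa [w] using hsm
      · simpa [w, h] using hm _ (y i).2
    · rw [hker]
      refine sup_le ((Ideal.map_mono hgen).trans ?_) ?_
      · rw [Ideal.map_sup, Ideal.map_pow, Ideal.map_span, sup_le_iff]
        refine ⟨Ideal.span_le.mpr ?_, le_sup_of_le_right (Ideal.pow_right_mono le_sup_left 2)⟩
        rintro _ ⟨_, ⟨i, rfl⟩, rfl⟩
        rcases eq_or_ne i i₀ with rfl | h
        · exact Ideal.mem_sup_right (hker ▸ by simpa [y] using hgs)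
        · exact Ideal.mem_sup_left (Ideal.subset_span ⟨i, by simp [w, h]⟩)
      · exact le_sup_of_le_left (Ideal.span_mono (by simpa using ⟨i₀, by simp [w]⟩))
    · intro c hc
      have hsplit : ∀ (φ : Step p f → Step p f), ∑ i, c i * w i =
          c i₀ * s + ∑ i ∈ Finset.univ.erase i₀, c i * algebraMap A _ (y i : A) := fun _ => by
        rw [← Finset.add_sum_erase _ _ (Finset.mem_univ i₀)]
        refine congrArg₂ _ (by simp [w]) (Finset.sum_congr rfl fun i hi => ?_)
        simp [w, Finset.ne_of_mem_erase hi]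
      rw [hsplit id] at hc
      intro i
      rcases eq_or_ne i i₀ with rfl | h
      · have := congrArg TrivSqZeroExt.snd (hε2 _ hc)
        rw [hχ]
        simpa [map_sum, fun i => hεm _ (y i).2, hεs, hε1, AdjoinRoot.algebraMap_eq] using this
      · choose d hd using fun j => Ideal.Quotient.mk_surjective (ψ (c j))
        have h1 : Ideal.Quotient.mk J (∑ j ∈ Finset.univ.erase i₀, d j * (y j : A)) = 0 := by
          simpa [map_sum, hψs, hψa, hd, AdjoinRoot.algebraMap_eq] using hψ2 _ hc
        rw [Ideal.Quotient.eq_zero_iff_mem] at h1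
        obtain ⟨u, hu, _, hv, huv⟩ := Submodule.mem_sup.mp h1
        obtain ⟨e, rfl⟩ := Ideal.mem_span_singleton'.mp hv
        rw [hχ, ← hψχ _ _ (hd i).symm, residue_eq_zero_iff]
        have := hind (Function.update d i₀ (-e)) ?_ i
        · simpa [h] using this
        · rw [← Finset.add_sum_erase _ _ (Finset.mem_univ i₀)]
          rw [Function.update_self, show (y i₀ : A) = g by simp [y]]
          rw [Finset.sum_congr rfl (fun j hj => by
            rw [Function.update_of_ne (Finset.ne_of_mem_erase hj)] :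
            ∀ j ∈ Finset.univ.erase i₀, Function.update d i₀ (-e) j * (y j : A) = d j * (y j : A)), ← huv]
          simpa [neg_mul] using hu

/-- The embedding dimension grows by one exactly if all derivations kill `f`. -/
theorem finrank_cotangent_step :
    (Module.finrank (ResidueField (Step p f)) (CotangentSpace (Step p f)) =
        Module.finrank (ResidueField A) (CotangentSpace A) ∧
      ∃ D : Derivation ℤ A (ResidueField A), D f ≠ 0) ∨
    (Module.finrank (ResidueField (Step p f)) (CotangentSpace (Step p f)) =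
        Module.finrank (ResidueField A) (CotangentSpace A) + 1 ∧
      ∀ D : Derivation ℤ A (ResidueField A), D f = 0) := by
  by_cases h : ∃ a, f - a ^ p ∈ maximalIdeal A ^ 2
  · obtain ⟨a, ha⟩ := h
    refine Or.inr ⟨(finrank_cotangent_split p f a (Ideal.pow_le_self two_ne_zero ha)).1 ha, fun D => ?_⟩
    rw [show f = a ^ p + (f - a ^ p) by ring, map_add, deriv_pow p, zero_add]
    rw [sq] at ha
    refine Submodule.mul_induction_on ha (fun u hu w hw => ?_) fun u w hu hw => by rw [map_add, hu, hw, add_zero]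
    simp [Algebra.smul_def, (residue_eq_zero_iff u).mpr hu, (residue_eq_zero_iff w).mpr hw]
  · push Not at h
    refine Or.inl ⟨?_, exists_derivation p f h⟩
    by_cases h2 : ∃ y, y ^ p = residue A f
    · obtain ⟨y, hy⟩ := h2
      obtain ⟨a, rfl⟩ := residue_surjective y
      exact (finrank_cotangent_split p f a ((residue_eq_zero_iff _).mp (by simp [hy]))).2 (h a)
    · push Not at h2
      exact finrank_cotangent_inseparable p f h2

end Groth.Agent.Alg.PthRoot
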