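import Mathlib.Algebra.CharP.Lemmas
import Mathlib.Algebra.CharP.Frobenius
import Mathlib.FieldTheory.KummerExtension
import Mathlib.RingTheory.Derivation.Basic
import Mathlib.Algebra.TrivSqZeroExt.Basic
import Mathlib.RingTheory.Ideal.Cotangent
import Mathlib.LinearAlgebra.Dual.Lemmas

/-! Ring sections of square-zero extensions of fields of characteristic `p`. -/

open Polynomial

universe u v

namespace Groth.Agent.Alg.PthRoot

variable (p : ℕ) [Fact p.Prime]

/-- A square-zero extension of a field of characteristic `p` splits, extending a given partial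
splitting and a prescribed lift of one more element. -/
theorem exists_section_extend {C : Type u} {K : Type v} [CommRing C] [Field K] [CharP C p] [CharP K p]
    (π : C →+* K) (hπ : Function.Surjective π) (hsq : ∀ k k', π k = 0 → π k' = 0 → k * k' = 0)
    (S₀ : Subring C) (hS₀pow : ∀ c : C, c ^ p ∈ S₀) (hS₀inj : ∀ a ∈ S₀, π a = 0 → a = 0)
    (T : Set C) (hT : T.Subsingleton) (hT' : ∀ c ∈ T, ∀ a ∈ S₀, π a ≠ π c) :
    ∃ s : K →+* C, (∀ x, π (s x) = x) ∧ (∀ a ∈ S₀, s (π a) = a) ∧ ∀ c ∈ T, s (π c) = c := by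
  classical
  have hp := (Fact.out : p.Prime)
  have hpow : ∀ c c', π c = π c' → c ^ p = c' ^ p := fun c c' h => by
    obtain ⟨k, rfl⟩ : ∃ k, c = c' + k := ⟨c - c', by ring⟩
    have hk : π k = 0 := by simpa using h
    rw [add_pow_char, show k ^ p = k ^ 2 * k ^ (p - 2) by rw [← pow_add, Nat.add_sub_cancel' hp.two_le],
      sq, hsq k k hk hk, zero_mul, add_zero]
  let Good (S : Subring C) : Prop := (∀ c, c ^ p ∈ S) ∧ ∀ a ∈ S, π a = 0 → a = 0
  have hS₀ : Good S₀ := ⟨hS₀pow, hS₀inj⟩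
  have step : ∀ S, Good S → ∀ c, (∀ a ∈ S, π a ≠ π c) → ∃ S', Good S' ∧ S ≤ S' ∧ c ∈ S' := by
    intro S hS c hc
    refine ⟨(eval₂RingHom S.subtype c).range, ⟨fun d => ⟨Polynomial.C ⟨d ^ p, hS.1 d⟩, by simp⟩, ?_⟩,
      fun a ha => ⟨Polynomial.C ⟨a, ha⟩, by simp⟩, ⟨X, by simp⟩⟩
    rintro _ ⟨P, rfl⟩ h
    let G : Polynomial S := X ^ p - Polynomial.C ⟨c ^ p, hS.1 c⟩
    have hG : G.Monic := monic_X_pow_sub_C _ hp.ne_zero
    have hev : eval₂ S.subtype c G = 0 := by simp [G]
    let Q := P %ₘ G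
    have hQ : eval₂ S.subtype c P = eval₂ S.subtype c Q := by
      conv_lhs => rw [← modByMonic_add_div P G]
      simp [hev, Q]
    simp only [coe_eval₂RingHom] at h ⊢
    rw [hQ] at h ⊢
    let L : Subfield K :=
      { S.map π with
        inv_mem' := by
          rintro _ ⟨a, ha, rfl⟩
          rcases eq_or_ne (π a) 0 with h0 | h0
          · exact ⟨0, S.zero_mem, by rw [h0, inv_zero, map_zero]⟩
          · obtain ⟨d, hd⟩ := hπ (π a)⁻¹
            refine ⟨a ^ (p - 1) * d ^ p, S.mul_mem (S.pow_mem ha _) (hS.1 d), ?_⟩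
            rw [map_mul, map_pow, map_pow, hd, inv_pow, ← div_eq_mul_inv, div_eq_iff (pow_ne_zero _ h0)]
            conv_rhs => rw [show p = p - 1 + 1 from (Nat.sub_add_cancel hp.one_le).symm, pow_succ',
              ← mul_assoc, inv_mul_cancel₀ h0, one_mul] }
    let θ : S →+* L := (π.comp S.subtype).codRestrict L fun a => ⟨a, a.2, rfl⟩
    have hθ : Function.Injective θ := (injective_iff_map_eq_zero θ).mpr fun a ha =>
      Subtype.ext (hS.2 a a.2 (congrArg Subtype.val ha))
    have hirr : Irreducible (X ^ p - Polynomial.C (θ ⟨c ^ p, hS.1 c⟩)) := by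
      refine X_pow_sub_C_irreducible_of_prime hp fun ⟨b, hb⟩ h => ?_
      obtain ⟨a, ha, rfl⟩ := hb
      have h' : π a ^ p = π c ^ p := (congrArg Subtype.val h).trans (map_pow π c p)
      exact hc a ha (frobenius_inj K p (by simpa [frobenius_def] using h'))
    have hroot : Polynomial.aeval (π c) (Q.map θ) = 0 := by
      rw [aeval_def, eval₂_map, ← h, ← coe_eval₂RingHom, hom_eval₂]
      rfl
    have hdvd := minpoly.dvd L (π c) hroot
    rw [← minpoly.eq_of_irreducible_of_monic hirr (by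
      simp only [map_sub, map_pow, aeval_X, aeval_C]
      exact sub_eq_zero.mpr (map_pow π c p).symm) (monic_X_pow_sub_C _ hp.ne_zero)] at hdvd
    have hQ0 : Q.map θ = 0 := by
      refine Polynomial.eq_zero_of_dvd_of_degree_lt hdvd ?_
      have : Nontrivial C := π.domain_nontrivial
      have : Nontrivial S := ⟨⟨0, 1, fun h => zero_ne_one (α := C) (congrArg Subtype.val h)⟩⟩
      have h1 : Q.degree < G.degree := degree_modByMonic_lt P hG
      rw [degree_X_pow_sub_C hp.pos] at h1 ⊢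
      exact (degree_map_le).trans_lt h1
    rw [(Polynomial.map_eq_zero_iff hθ).mp hQ0, eval₂_zero]
  obtain ⟨S₁, ⟨hS₁, hS₀₁⟩, hTS⟩ : ∃ S, (Good S ∧ S₀ ≤ S) ∧ T ⊆ S := by
    rcases T.eq_empty_or_nonempty with rfl | ⟨c, hc⟩
    · exact ⟨S₀, ⟨hS₀, le_rfl⟩, Set.empty_subset _⟩
    · obtain ⟨S', h1, h2, h3⟩ := step S₀ hS₀ c (hT' c hc)
      exact ⟨S', ⟨h1, h2⟩, fun d hd => hT hd hc ▸ h3⟩
  obtain ⟨S, hS₁S, hmax⟩ := zorn_le_nonempty₀ {S | Good S ∧ T ⊆ S} (fun ch hch hchain y hy => by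
    have : Nonempty ch := ⟨⟨y, hy⟩⟩
    have hdir : Directed (· ≤ ·) (fun S : ch => (S : Subring C)) :=
      fun a b => (hchain.total a.2 b.2).elim (fun h => ⟨b, h, le_rfl⟩) (fun h => ⟨a, le_rfl, h⟩)
    refine ⟨⨆ S : ch, (S : Subring C), ⟨⟨fun c => ?_, fun a ha h => ?_⟩, ?_⟩, fun S hS => le_iSup (fun S : ch => (S : Subring C)) ⟨S, hS⟩⟩
    · exact le_iSup (fun S : ch => (S : Subring C)) ⟨y, hy⟩ ((hch hy).1.1 c)
    · obtain ⟨S, hS⟩ := (Subring.mem_iSup_of_directed hdir).mp ha
      exact (hch S.2).1.2 a hS h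
    · exact (hch hy).2.trans (le_iSup (fun S : ch => (S : Subring C)) ⟨y, hy⟩)) S₁ ⟨hS₁, hTS⟩
  obtain ⟨⟨hgood, hTS'⟩, hle⟩ := hmax
  have hsurj : Function.Surjective (π.comp S.subtype) := fun x => by
    obtain ⟨c, rfl⟩ := hπ x
    by_contra hx
    obtain ⟨S', h1, h2, h3⟩ := step S hgood c fun a ha h => hx ⟨⟨a, ha⟩, h⟩
    exact hx ⟨⟨c, hle ⟨h1, hTS'.trans h2⟩ h2 h3⟩, rfl⟩
  let e := RingEquiv.ofBijective (π.comp S.subtype)
    ⟨(injective_iff_map_eq_zero _).mpr fun a ha => Subtype.ext (hgood.2 a a.2 ha), hsurj⟩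
  refine ⟨S.subtype.comp e.symm.toRingHom, fun x => e.apply_symm_apply x,
    fun a ha => congrArg Subtype.val (e.symm_apply_apply ⟨a, hS₁S (hS₀₁ ha)⟩), fun c hc => ?_⟩
  exact congrArg Subtype.val (e.symm_apply_apply ⟨c, hTS' hc⟩)

/-- A square-zero extension of a field of characteristic `p` splits; one lift of an element which
is not a `p`-th power may be prescribed. -/
theorem exists_section {C : Type u} {K : Type v} [CommRing C] [Field K] [CharP C p] [CharP K p]
    (π : C →+* K) (hπ : Function.Surjective π) (hsq : ∀ k k', π k = 0 → π k' = 0 → k * k' = 0)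
    (T : Set C) (hT : T.Subsingleton) (hT' : ∀ c ∈ T, ∀ y : K, y ^ p ≠ π c) :
    ∃ s : K →+* C, (∀ x, π (s x) = x) ∧ ∀ c ∈ T, s (π c) = c := by
  have hp := (Fact.out : p.Prime)
  obtain ⟨s, hs, -, hsT⟩ := exists_section_extend p π hπ hsq (frobenius C p).range
    (fun c => ⟨c, by rw [frobenius_def]⟩) (by
      rintro a ⟨c, rfl⟩ h
      rw [frobenius_def] at h ⊢
      rw [map_pow, pow_eq_zero_iff hp.ne_zero] at h
      rw [show c ^ p = c ^ 2 * c ^ (p - 2) by rw [← pow_add, Nat.add_sub_cancel' hp.two_le], sq,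
        hsq c c h h, zero_mul]) T hT fun c hc a ha h => by
      obtain ⟨b, rfl⟩ := ha
      exact hT' c hc (π b) (by rw [← map_pow, ← frobenius_def]; exact h)
  exact ⟨s, hs, hsT⟩

/-- A derivation of a field of characteristic `p` which is nonzero on a given non `p`-th power. -/
theorem exists_derivation_field {K : Type u} [Field K] [CharP K p] (x : K) (hx : ∀ y, y ^ p ≠ x) :
    ∃ D : Derivation ℤ K K, D x = 1 := by
  have : CharP (TrivSqZeroExt K K) p :=
    charP_of_injective_ringHom (f := TrivSqZeroExt.inlHom K K) TrivSqZeroExt.inl_injective p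
  obtain ⟨s, hs, hsx⟩ := exists_section p (TrivSqZeroExt.fstHom K K K).toRingHom
    (fun y => ⟨TrivSqZeroExt.inl y, rfl⟩) (fun a b (ha : a.fst = 0) (hb : b.fst = 0) => by
      ext <;> simp [ha, hb])
    {TrivSqZeroExt.inl x + TrivSqZeroExt.inr 1} Set.subsingleton_singleton (by simpa using hx)
  have hs' : ∀ a, (s a).fst = a := hs
  refine ⟨Derivation.mk' ((TrivSqZeroExt.sndHom K K).toAddMonoidHom.comp s.toAddMonoidHom).toIntLinearMap
    fun a b => ?_, ?_⟩
  · simp [hs', mul_comm]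
  · have := hsx _ (Set.mem_singleton _)
    simp only [map_add] at this
    simpa using congrArg TrivSqZeroExt.snd this

/-- A derivation killing a subfield containing all `p`-th powers, with prescribed non-zero value. -/
theorem exists_derivation_of_notMem {K : Type u} [Field K] [CharP K p] (L : Subring K)
    (hL : ∀ x : K, x ^ p ∈ L) {c : K} (hc : c ∉ L) :
    ∃ D : Derivation ℤ K K, (∀ a ∈ L, D a = 0) ∧ D c = 1 := by
  have hp := (Fact.out : p.Prime)
  have : CharP (TrivSqZeroExt K K) p :=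
    charP_of_injective_ringHom (f := TrivSqZeroExt.inlHom K K) TrivSqZeroExt.inl_injective p
  obtain ⟨s, hs, hsL, hsc⟩ := exists_section_extend p (TrivSqZeroExt.fstHom K K K).toRingHom
    (fun y => ⟨TrivSqZeroExt.inl y, rfl⟩) (fun a b (ha : a.fst = 0) (hb : b.fst = 0) => by
      ext <;> simp [ha, hb]) (L.map (TrivSqZeroExt.inlHom K K))
    (fun d => by
      refine ⟨d.fst ^ p, hL _, ?_⟩
      conv_rhs => rw [← TrivSqZeroExt.inl_fst_add_inr_snd_eq d, add_pow_char,
        show (TrivSqZeroExt.inr d.snd : TrivSqZeroExt K K) ^ p = 0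
          from pow_eq_zero_of_le hp.two_le (by rw [sq, TrivSqZeroExt.inr_mul_inr]), add_zero]
      exact map_pow (TrivSqZeroExt.inlHom K K) _ _)
    (by rintro _ ⟨a, -, rfl⟩ (h : a = 0); rw [h, map_zero])
    {TrivSqZeroExt.inl c + TrivSqZeroExt.inr 1} Set.subsingleton_singleton (by
      rintro _ rfl _ ⟨a, ha, rfl⟩ h
      exact hc (by simpa using (show a = c by simpa using h) ▸ ha))
  have hs' : ∀ a, (s a).fst = a := hs
  refine ⟨Derivation.mk' ((TrivSqZeroExt.sndHom K K).toAddMonoidHom.comp s.toAddMonoidHom).toIntLinearMap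
    fun a b => ?_, fun a ha => ?_, ?_⟩
  · simp [hs', mul_comm]
  · have := hsL _ ⟨a, ha, rfl⟩
    simpa using congrArg TrivSqZeroExt.snd this
  · have := hsc _ (Set.mem_singleton _)
    simp only [map_add] at this
    simpa using congrArg TrivSqZeroExt.snd this

end Groth.Agent.Alg.PthRoot
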