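import Groth.Agent.Alg.PthRoot.Step
import Mathlib.RingTheory.MvPolynomial.Basic
import Mathlib.RingTheory.Polynomial.Basic
import Mathlib.RingTheory.Kaehler.Basic
import Mathlib.RingTheory.TensorProduct.Maps

/-! Adjoining several `p`-th roots to a local ring: embedding dimension and differentials. -/

open IsLocalRing TensorProduct

universe u

namespace Groth.Agent.Alg.PthRoot

set_option maxHeartbeats 2000000

variable (p : ℕ) [Fact p.Prime]

/-- `A[T_1, …, T_r]/(T_i^p - f_i)`. -/
abbrev Tower {A : Type u} [CommRing A] {r : ℕ} (f : Fin r → A) : Type u :=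
  MvPolynomial (Fin r) A ⧸ Ideal.span (Set.range fun i => MvPolynomial.X i ^ p - MvPolynomial.C (f i))

variable {A : Type u} [CommRing A]

omit [Fact p.Prime] in
theorem tower_relation {r : ℕ} (f : Fin r → A) (i : Fin r) :
    Ideal.Quotient.mk _ (MvPolynomial.X i) ^ p = algebraMap A (Tower p f) (f i) := by
  rw [← map_pow, ← sub_eq_zero]
  change _ - Ideal.Quotient.mk _ (MvPolynomial.C (f i)) = 0
  rw [← map_sub, Ideal.Quotient.eq_zero_iff_mem]
  exact Ideal.subset_span ⟨i, rfl⟩

omit [Fact p.Prime] in
theorem step_relation (f : A) :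
    AdjoinRoot.root (Polynomial.X ^ p - Polynomial.C f) ^ p = algebraMap A (Step p f) f := by
  have := AdjoinRoot.eval₂_root (Polynomial.X ^ p - Polynomial.C f)
  simpa [sub_eq_zero] using this

omit [Fact p.Prime] in
theorem exists_towerEquiv_aux {r : ℕ} (f : Fin (r + 1) → A) (A' : Type u) [CommRing A'] [Algebra A A']
    (t : A') (ht : t ^ p = algebraMap A A' (f 0)) (g : A' →+* Tower p f)
    (hg : ∀ a, g (algebraMap A A' a) = algebraMap A (Tower p f) a)
    (hgt : g t = Ideal.Quotient.mk _ (MvPolynomial.X 0))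
    (hext : ∀ {R : Type u} [CommRing R] (h h' : A' →+* R),
      h.comp (algebraMap A A') = h'.comp (algebraMap A A') → h t = h' t → h = h') :
    Nonempty (Tower p f ≃+* Tower p (fun i : Fin r => algebraMap A A' (f i.succ))) := by
  let f' : Fin r → A' := fun i => algebraMap A A' (f i.succ)
  let T' := Tower p f'
  let T := Tower p f
  let inA' : A' →+* T' := algebraMap A' T'
  let x : Fin (r + 1) → T' := Fin.cons (inA' t) fun i => Ideal.Quotient.mk _ (MvPolynomial.X i)
  have hx : ∀ i, x i ^ p = inA' (algebraMap A A' (f i)) := by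
    refine Fin.cases ?_ (fun i => ?_)
    · simp only [x, Fin.cons_zero]
      rw [← map_pow, ht]
    · simp only [x, Fin.cons_succ]
      exact tower_relation p f' i
  let F : T →+* T' := Ideal.Quotient.lift _ (MvPolynomial.eval₂Hom (inA'.comp (algebraMap A A')) x) fun a ha => by
    refine Ideal.span_le (I := RingHom.ker (MvPolynomial.eval₂Hom (inA'.comp (algebraMap A A')) x)).mpr ?_ ha
    rintro _ ⟨i, rfl⟩
    simp only [SetLike.mem_coe, RingHom.mem_ker, map_sub, map_pow, MvPolynomial.eval₂Hom_X', MvPolynomial.eval₂Hom_C,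
      RingHom.comp_apply]
    rw [hx, sub_self]
  let y : Fin r → T := fun i => Ideal.Quotient.mk _ (MvPolynomial.X i.succ)
  let φ : MvPolynomial (Fin r) A' →+* T := MvPolynomial.eval₂Hom g y
  have hy : ∀ i, y i ^ p = g (f' i) := fun i => (tower_relation p f i.succ).trans (hg _).symm
  have hle : Ideal.span (Set.range fun i => MvPolynomial.X i ^ p - MvPolynomial.C (f' i)) ≤ RingHom.ker φ := by
    refine Ideal.span_le.mpr ?_
    rintro _ ⟨i, rfl⟩
    simp only [SetLike.mem_coe, RingHom.mem_ker, map_sub, map_pow, φ, MvPolynomial.eval₂Hom_X', MvPolynomial.eval₂Hom_C]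
    rw [hy, sub_self]
  let G : T' →+* T := Ideal.Quotient.lift _ φ fun a ha => hle ha
  have hFA : ∀ a, F (algebraMap A T a) = inA' (algebraMap A A' a) := fun a => MvPolynomial.eval₂Hom_C _ _ a
  have hFX : ∀ i, F (Ideal.Quotient.mk _ (MvPolynomial.X i)) = x i := fun i => MvPolynomial.eval₂Hom_X' _ _ i
  have hGA : ∀ a, G (inA' a) = g a := fun a => MvPolynomial.eval₂Hom_C _ _ a
  have hGX : ∀ i, G (Ideal.Quotient.mk _ (MvPolynomial.X i)) = Ideal.Quotient.mk _ (MvPolynomial.X i.succ) :=
    fun i => MvPolynomial.eval₂Hom_X' _ _ i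
  refine ⟨RingEquiv.ofRingHom F G ?_ ?_⟩
  · have h0 : F.comp g = inA' := hext _ _ (RingHom.ext fun a => (congrArg F (hg a)).trans (hFA a))
      ((congrArg F hgt).trans (hFX 0))
    refine Ideal.Quotient.ringHom_ext (MvPolynomial.ringHom_ext (fun a => ?_) fun i => ?_)
    · exact (congrArg F (hGA a)).trans (DFunLike.congr_fun h0 a)
    · exact (congrArg F (hGX i)).trans ((hFX i.succ).trans (Fin.cons_succ _ _ i))
  · refine Ideal.Quotient.ringHom_ext (MvPolynomial.ringHom_ext (fun a => ?_) fun i => ?_)
    · exact (congrArg G (hFA a)).trans ((hGA _).trans (hg a))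
    · refine (congrArg G (hFX i)).trans ?_
      refine Fin.cases ?_ (fun i => ?_) i
      · exact (hGA _).trans hgt
      · exact hGX i

omit [Fact p.Prime] in
theorem exists_towerEquiv {r : ℕ} (f : Fin (r + 1) → A) :
    Nonempty (Tower p f ≃+* Tower p (fun i : Fin r => algebraMap A (Step p (f 0)) (f i.succ))) :=
  exists_towerEquiv_aux p f (Step p (f 0)) (AdjoinRoot.root _) (step_relation p (f 0))
    (AdjoinRoot.lift (algebraMap A (Tower p f)) (Ideal.Quotient.mk _ (MvPolynomial.X 0)) (by
      simp only [Polynomial.eval₂_sub, Polynomial.eval₂_X_pow, Polynomial.eval₂_C, sub_eq_zero]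
      exact tower_relation p f 0))
    (fun a => AdjoinRoot.lift_of _) (AdjoinRoot.lift_root _) fun h h' h1 h2 => AdjoinRoot.ringHom_ext h1 h2

variable [IsLocalRing A]

theorem finrank_cotangent_eq_of_ringEquiv {B : Type u} [CommRing B] [IsLocalRing B] [IsNoetherianRing A]
    (e : A ≃+* B) : Module.finrank (ResidueField B) (CotangentSpace B) =
      Module.finrank (ResidueField A) (CotangentSpace A) := by
  have := isNoetherianRing_of_ringEquiv A e
  let b := Module.finBasis (ResidueField A) (CotangentSpace A)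
  choose x hxb using fun i => Ideal.toCotangent_surjective (maximalIdeal A) (b i)
  obtain ⟨hgen, hind⟩ := family_of_basis b (fun i => (x i : A)) (fun i => (x i).2) hxb
  have hmem : ∀ a, e a ∈ maximalIdeal B ↔ a ∈ maximalIdeal A := fun a => by
    simp [IsLocalRing.mem_maximalIdeal, mem_nonunits_iff]
  have hmap : (maximalIdeal A).map e = maximalIdeal B := by
    ext z
    obtain ⟨a, rfl⟩ := e.surjective z
    rw [hmem, Ideal.apply_mem_of_equiv_iff]
  rw [finrank_eq (fun i => e (x i : A)), Fintype.card_fin]
  · exact fun i => (hmem _).mpr (x i).2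
  · rw [← hmap]
    refine (Ideal.map_mono hgen).trans (le_of_eq ?_)
    rw [Ideal.map_sup, Ideal.map_pow, Ideal.map_span, ← Set.range_comp]
    rfl
  · intro c hc i
    rw [← e.apply_symm_apply (c i), hmem]
    refine hind (fun j => e.symm (c j)) ?_ i
    rw [← hmap, ← Ideal.map_pow] at hc
    rw [← Ideal.apply_mem_of_equiv_iff (f := e)]
    simpa [map_sum] using hc

omit [Fact p.Prime] in
theorem linear_of_derivation {M : Type*} [AddCommGroup M] [Module A M] [Module (ResidueField A) M]
    [IsScalarTower A (ResidueField A) M] (D : Derivation ℤ A M) :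
    ∃ L : (ResidueField A ⊗[A] Ω[A⁄ℤ]) →ₗ[ResidueField A] M,
      ∀ a, L (1 ⊗ₜ KaehlerDifferential.D ℤ A a) = D a :=
  ⟨LinearMap.liftBaseChange _ D.liftKaehlerDifferential, fun a => by simp⟩

omit [Fact p.Prime] in
theorem exists_dual {r : ℕ} {f : Fin r → A}
    (h : LinearIndependent (ResidueField A) fun i => (1 : ResidueField A) ⊗ₜ[A] KaehlerDifferential.D ℤ A (f i))
    (j : Fin r) : ∃ D : Derivation ℤ A (ResidueField A), ∀ i, D (f i) = if i = j then 1 else 0 := by
  classical
  obtain ⟨L, hL⟩ := LinearMap.exists_extend ((Finsupp.lapply j).comp h.repr)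
  refine ⟨((L.restrictScalars A).comp (TensorProduct.mk A (ResidueField A) Ω[A⁄ℤ] 1)).compDer
    (KaehlerDifferential.D ℤ A), fun i => ?_⟩
  have := DFunLike.congr_fun hL ⟨_, Submodule.subset_span (Set.mem_range_self i)⟩
  simp only [LinearMap.comp_apply, Submodule.coe_subtype, Finsupp.lapply_apply] at this
  rw [h.repr_eq_single i _ rfl, Finsupp.single_apply] at this
  exact this

variable [CharP A p]

theorem exists_extend (f : A) (D : Derivation ℤ A (ResidueField A)) (hD : D f = 0) :
    ∃ D' : Derivation ℤ (Step p f) (ResidueField (Step p f)),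
      ∀ a, D' (algebraMap A _ a) = ResidueField.map (algebraMap A (Step p f)) (D a) := by
  let e := ResidueField.map (algebraMap A (Step p f))
  have he : ∀ a, e (residue A a) = residue _ (algebraMap A (Step p f) a) := fun a => rfl
  let K' := ResidueField (Step p f)
  obtain ⟨h₀, hh₀⟩ : ∃ h₀ : A →+* TrivSqZeroExt K' K', ∀ a,
      h₀ a = TrivSqZeroExt.inl (e (residue A a)) + TrivSqZeroExt.inr (e (D a)) :=
    ⟨RingHom.mk' ⟨⟨fun a => TrivSqZeroExt.inl (e (residue A a)) + TrivSqZeroExt.inr (e (D a)),
      by simp⟩, fun a b => by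
        ext
        · simp
        · simp [Algebra.smul_def, mul_comm]⟩ fun a b => by
      ext <;> simp [map_add], fun _ => rfl⟩
  let h : Step p f →+* TrivSqZeroExt K' K' :=
    AdjoinRoot.lift h₀ (TrivSqZeroExt.inl (residue _ (AdjoinRoot.root _))) (by
      simp only [Polynomial.eval₂_sub, Polynomial.eval₂_X_pow, Polynomial.eval₂_C, sub_eq_zero]
      rw [show TrivSqZeroExt.inl (residue _ (AdjoinRoot.root (Polynomial.X ^ p - Polynomial.C f))) =
        TrivSqZeroExt.inlHom K' K' (residue _ (AdjoinRoot.root _)) from rfl, ← map_pow, ← map_pow,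
        step_relation, ← he]
      rw [hh₀, hD, map_zero, TrivSqZeroExt.inr_zero, add_zero]
      rfl)
  have h1 : ∀ z, (h z).fst = residue _ z := fun z => by
    refine DFunLike.congr_fun (f := (TrivSqZeroExt.fstHom K' K' K').toRingHom.comp h) ?_ z
    refine AdjoinRoot.ringHom_ext (RingHom.ext fun a => ?_) ?_
    · simp [h, hh₀, he, AdjoinRoot.algebraMap_eq]
    · simp [h]
  refine ⟨Derivation.mk' ((TrivSqZeroExt.sndHom K' K').toAddMonoidHom.comp h.toAddMonoidHom).toIntLinearMap
    fun a b => ?_, fun a => ?_⟩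
  · simp [h1, TrivSqZeroExt.snd_mul, Algebra.smul_def, K']
    ring
  · simp [h, hh₀, AdjoinRoot.algebraMap_eq, e]

variable [IsNoetherianRing A]

set_option backward.isDefEq.respectTransparency false in
theorem linearIndependent_cons {r : ℕ} (f : Fin (r + 1) → A) :
    LinearIndependent (ResidueField A) (fun i => (1 : ResidueField A) ⊗ₜ[A] KaehlerDifferential.D ℤ A (f i)) ↔
      (∃ D : Derivation ℤ A (ResidueField A), D (f 0) ≠ 0) ∧
      LinearIndependent (ResidueField (Step p (f 0))) (fun i : Fin r => (1 : ResidueField (Step p (f 0)))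
        ⊗ₜ[Step p (f 0)] KaehlerDifferential.D ℤ (Step p (f 0)) (algebraMap A _ (f i.succ))) := by
  classical
  let A' := Step p (f 0)
  let K' := ResidueField A'
  constructor
  · intro h
    refine ⟨(exists_dual h 0).imp fun D hD => by simp [hD 0], Fintype.linearIndependent_iff.mpr fun c hc j => ?_⟩
    obtain ⟨D, hD⟩ := exists_dual h j.succ
    obtain ⟨D', hD'⟩ := exists_extend p (f 0) D (by simp [hD 0, (Fin.succ_ne_zero j).symm])
    obtain ⟨L, hL⟩ := linear_of_derivation D'
    have hD'' : ∀ a, D' (AdjoinRoot.of _ a) = ResidueField.map (algebraMap A A') (D a) := hD'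
    simpa [map_sum, hL, hD'', hD, apply_ite (ResidueField.map (algebraMap A A'))] using congrArg L hc
  · rintro ⟨⟨D₀, hD₀⟩, h⟩
    refine Fintype.linearIndependent_iff.mpr fun c hc => ?_
    letI : Algebra (ResidueField A) K' := (ResidueField.map (algebraMap A A')).toAlgebra
    have : IsScalarTower A (ResidueField A) K' := .of_algebraMap_eq fun a => rfl
    have hsucc : ∀ j : Fin r, c j.succ = 0 := fun j => by
      obtain ⟨D', hD'⟩ := exists_dual h j
      let D : Derivation ℤ A K' := Derivation.mk'
        (D'.toLinearMap.toAddMonoidHom.comp (algebraMap A A').toAddMonoidHom).toIntLinearMap fun a b => by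
          change D' (algebraMap A A' (a * b)) = a • D' (algebraMap A A' b) + b • D' (algebraMap A A' a)
          rw [map_mul, D'.leibniz]
          simp [Algebra.smul_def, show ∀ z, algebraMap A (ResidueField (Step p (f 0))) z = residue _ (algebraMap A (Step p (f 0)) z) from fun z => rfl, A', mul_comm]
      have hD0 : D (f 0) = 0 := by
        change D' (algebraMap A A' (f 0)) = 0
        rw [← step_relation]
        exact deriv_pow p D' _
      have hDs : ∀ i : Fin r, D (f i.succ) = if i = j then 1 else 0 := hD'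
      obtain ⟨L, hL⟩ := linear_of_derivation D
      have := congrArg L hc
      rw [map_sum, Fin.sum_univ_succ] at this
      simp [map_smul, hL, hD0, hDs, Algebra.smul_def] at this
      exact this
    refine Fin.cases ?_ hsucc
    obtain ⟨L, hL⟩ := linear_of_derivation D₀
    have := congrArg L hc
    rw [map_sum, Fin.sum_univ_succ] at this
    simpa [map_smul, hL, hsucc, hD₀] using this

omit [CharP A p] [IsNoetherianRing A] [IsLocalRing A] in
theorem tower_main : ∀ (r : ℕ) (A : Type u) [CommRing A] [IsLocalRing A] [IsNoetherianRing A] [CharP A p]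
    (f : Fin r → A), ∃ _ : IsLocalRing (Tower p f),
      Module.finrank (ResidueField A) (CotangentSpace A) ≤
          Module.finrank (ResidueField (Tower p f)) (CotangentSpace (Tower p f)) ∧
      (Module.finrank (ResidueField A) (CotangentSpace A) =
          Module.finrank (ResidueField (Tower p f)) (CotangentSpace (Tower p f)) ↔
        LinearIndependent (ResidueField A)
          (fun i => (1 : ResidueField A) ⊗ₜ[A] KaehlerDifferential.D ℤ A (f i))) := by
  intro r
  induction r with
  | zero =>
    intro A _ _ _ _ f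
    let e : A ≃+* Tower p f := RingEquiv.symm
      ((Ideal.quotEquivOfEq (by simp [Set.range_eq_empty, Ideal.span_empty])).trans
        ((RingEquiv.quotientBot _).trans (MvPolynomial.isEmptyRingEquiv A (Fin 0))))
    have hl := e.isLocalRing
    exact ⟨hl, (finrank_cotangent_eq_of_ringEquiv e).ge,
      iff_of_true (finrank_cotangent_eq_of_ringEquiv e).symm linearIndependent_empty_type⟩
  | succ r ih =>
    intro A _ _ _ _ f
    obtain ⟨hl, hle, hiff⟩ := ih (Step p (f 0)) fun i => algebraMap A _ (f i.succ)
    obtain ⟨e⟩ := exists_towerEquiv p f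
    have : IsNoetherianRing (Tower p (fun i : Fin r => algebraMap A (Step p (f 0)) (f i.succ))) := inferInstance
    have hl' := e.symm.isLocalRing
    refine ⟨hl', ?_⟩
    rw [finrank_cotangent_eq_of_ringEquiv e.symm, linearIndependent_cons p f]
    rcases finrank_cotangent_step p (f 0) with ⟨h1, hD⟩ | ⟨h1, hD⟩
    · exact ⟨by omega, fun h => ⟨hD, hiff.mp (h1.trans h)⟩, fun h => h1.symm.trans (hiff.mpr h.2)⟩
    · refine ⟨by omega, ⟨fun h => by omega, fun ⟨⟨D, hD'⟩, _⟩ => absurd (hD D) hD'⟩⟩

end Groth.Agent.Alg.PthRoot
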